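import Cfsg.Agent.N2.Cl.Defs
import Cfsg.Agent.TH.Cl.FldSO.Main

/-!
# N2 (S3519), class C3: reductions and criteria (helper95)

Kind-free: `gd_one` (one fixed point), `gd_cand` (counting the fixed points), `TR` (torus rings), `TR.sub_symF`, `TR.eq_or`,
`red_LU`.  Symplectic and orthogonal groups: `red` (a pair of totally singular subspaces, or a field of prime degree).
-/

set_option autoImplicit false
set_option linter.unusedSectionVars false

namespace Cfsg.Agent.N2C.Fld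

open Cfsg.Agent.DS.Cl Cfsg.Agent.DS.Cl.Fwd Cfsg.Agent.SB.Cl Cfsg.Agent.SB.C2 Cfsg.Agent.TH.Cl.Fld Module
open Cfsg.Agent.TH.Cl (Irr1 FldD)
open Cfsg.Agent.TH.Cl.FSO (SO FE comm_fix alg_cen cen_sym)
open scoped commutatorElement

section ring

variable {A : Type} [Ring A] [StarRing A] [Finite A] {F : FR A} {H : Subgroup (RingAut A)} {p : ℕ}

theorem finAut : Finite (RingAut A) := Finite.of_injective (fun γ : RingAut A => (γ : A → A)) DFunLike.coe_injective

omit [StarRing A] [Finite A] in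
/-- if `t⁻¹ (cj u) t` has a power fixing `X`, the power of `u` commutes with `t X` -/
theorem comm_of_conj {X : Set A} {u : Aˣ} {t : RingAut A} {j : ℕ} (h : (t⁻¹ * cj A u * t) ^ j ∈ DS.Cl.Fix X) {x : A}
    (hx : x ∈ X) : (u : A) ^ j * t x = t x * (u : A) ^ j := by
  have h1 : (t⁻¹ * cj A u * t) ^ j = t⁻¹ * cj A (u ^ j) * t := by
    simpa using conj_pow (i := j) (a := t⁻¹) (b := cj A u)
  have h2 := congrArg t (h x hx)
  rw [h1, ra_mul, ra_mul, ra_apply_inv] at h2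
  rw [← Units.val_pow_eq_pow_val, ← cj_mul_eq, h2]

/-- **one fixed point** -/
theorem gd_one (c : Ctx F H p) {X : Set A} (hX : Inv H X) (hS : ¬ Inv F.S X) {u : Aˣ}
    (hu : u ∈ (⁅F.Iso, F.Iso⁆ : Subgroup Aˣ)) (h1 : ∀ x ∈ X, (u : A) * x = x * u) {j : ℕ}
    (hj : ∀ γ ∈ H ⊓ F.S, γ ^ j ∈ DS.Cl.Fix X)
    (h : ∀ t ∈ F.S, (∀ x ∈ X, (u : A) ^ j * t x = t x * (u : A) ^ j) → ∀ x ∈ X, t x ∈ X) : Gd F H := by
  have := finAut (A := A)
  have hs : cj A u ∈ F.S := ⟨u, hu, rfl⟩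
  refine N2.good_of_one (a := ⟨_, hs⟩) (c.mem_of_inv hX hS hs fun x hx => (cj_eq_of_mul (h1 x hx)).symm ▸ hx)
    (N2.fx_le_one fun t ht => c.mem_of_inv hX hS t.2 (h t t.2 fun x hx => ?_))
  exact comm_of_conj (hj _ ⟨ht, (t⁻¹ * ⟨_, hs⟩ * t : F.S).2⟩) hx

/-- **counting the fixed points**: `θ` generates `X` in the sense of `hθ`, `Y` contains the conjugates of `θ` which
commute with `u ^ j` -/
theorem gd_cand (c : Ctx F H p) {X : Set A} (hX : Inv H X) (hS : ¬ Inv F.S X) {u : Aˣ}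
    (hu : u ∈ (⁅F.Iso, F.Iso⁆ : Subgroup Aˣ)) (h1 : ∀ x ∈ X, (u : A) * x = x * u) {j : ℕ}
    (hj : ∀ γ ∈ H ⊓ F.S, γ ^ j ∈ DS.Cl.Fix X) {θ : A} (hθ : ∀ t ∈ F.S, t θ = θ → ∀ x ∈ X, t x ∈ X)
    {Y : Set A} (h : ∀ t ∈ F.S, (∀ x ∈ X, (u : A) ^ j * t x = t x * (u : A) ^ j) → t θ ∈ Y) {d : ℕ} (hd : Nat.card Y ≤ d)
    (hc : d ^ 3 * Nat.card ↥(H ⊓ F.S) ≤ Nat.card F.S) : Gd F H := by
  have := finAut (A := A)
  have hs : cj A u ∈ F.S := ⟨u, hu, rfl⟩
  refine N2.good_of_le (a := ⟨_, hs⟩) (c.mem_of_inv hX hS hs fun x hx => (cj_eq_of_mul (h1 x hx)).symm ▸ hx) (c := d) ?_ ?_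
  · refine le_trans (Nat.card_le_card_of_injective (fun z => (⟨(z.1.out : F.S).1 θ, h _ z.1.out.2 fun x hx =>
      comm_of_conj (hj _ ⟨?_, (z.1.out⁻¹ * ⟨_, hs⟩ * z.1.out : F.S).2⟩) hx⟩ : Y)) fun z z' e => Subtype.ext ?_) hd
    · exact (N2.smul_mk_iff (H.subgroupOf F.S) ⟨_, hs⟩ z.1.out).1 (by rw [QuotientGroup.out_eq']; exact z.2)
    · rw [← z.1.out_eq', ← z'.1.out_eq', QuotientGroup.eq]
      refine c.mem_of_inv hX hS (z.1.out⁻¹ * z'.1.out).2 (hθ _ (z.1.out⁻¹ * z'.1.out).2 ?_)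
      have e' : (z.1.out : F.S).1 θ = (z'.1.out : F.S).1 θ := congrArg Subtype.val e
      change ((z.1.out : F.S).1⁻¹ * (z'.1.out : F.S).1) θ = θ
      rw [ra_mul, ← e', ra_inv_apply]
  · rwa [← Subgroup.inf_subgroupOf_right, Nat.card_congr (Subgroup.subgroupOfEquivOfLe inf_le_right).toEquiv]

/-- a non-central field is not invariant -/
theorem not_inv_fld (c : Ctx F H p) {W : Subring A} (hW : IsF W) (h : ¬ W ≤ Subring.center A) : ¬ Inv F.S W :=
  fun hS => h fun z hz => FR.cen_of_S c.span fun _ hs =>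
    Subgroup.commutator_le.2 (fun _ hγ _ hδ => comm_fix hW hS hγ hδ) (perfect_of_simple c.simple c.noncomm hs) z hz

omit [Finite A] in
theorem pair_swap {M : Subgroup (RingAut A)} (hM : M ≤ SAut A) {θ : A} (hi : Inv M {θ, star θ}) {γ : RingAut A}
    (hγ : γ ∈ M) : (γ θ = θ ∧ γ (star θ) = star θ) ∨ (γ θ = star θ ∧ γ (star θ) = θ) := by
  rcases hi γ hγ θ (Or.inl rfl) with e | e
  · exact Or.inl ⟨e, by rw [hM hγ, e]⟩
  · exact Or.inr ⟨e, by rw [hM hγ, show γ θ = star θ from e, star_star]⟩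

omit [Finite A] in
/-- squares fix an invariant pair -/
theorem pair_sq {M : Subgroup (RingAut A)} (hM : M ≤ SAut A) {θ : A} (hi : Inv M {θ, star θ}) {γ : RingAut A}
    (hγ : γ ∈ M) : γ ^ 2 ∈ DS.Cl.Fix {θ, star θ} := by
  rintro _ (rfl | rfl) <;> rw [pow_two, ra_mul] <;> rcases pair_swap hM hi hγ with e | e <;> simp only [e.1, e.2]

/-- a non-central pair is not invariant -/
theorem not_inv_pair (c : Ctx F H p) {θ : A} (h : θ ∉ Subring.center A) : ¬ Inv F.S {θ, star θ} := fun hS => by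
  have hM := F.S_le_Aut.trans F.Aut_le_SAut
  have h1 : ⁅F.S, F.S⁆ ≤ DS.Cl.Fix {θ} := Subgroup.commutator_le.2 fun γ hγ δ hδ => by
    have h1 : ∀ y ∈ ({θ, star θ} : Set A), γ (δ y) = δ (γ y) := by
      rintro _ (rfl | rfl) <;> rcases pair_swap hM hS hγ with e | e <;> rcases pair_swap hM hS hδ with e' | e' <;>
        simp only [e.1, e.2, e'.1, e'.2]
    rintro _ rfl
    rw [commutatorElement_def, ra_mul, ra_mul, ra_mul, h1 _ (hS _ (inv_mem hγ) _ (hS _ (inv_mem hδ) _ (Or.inl rfl))),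
      ra_apply_inv, ra_apply_inv]
  exact h (FR.cen_of_S c.span fun _ hs => h1 (perfect_of_simple c.simple c.noncomm hs) θ rfl)

theorem pair_l (c : Ctx F H p) (hI : Irr H) {ε : A} (hH : Inv H {ε, star ε}) (h2 : ε + star ε = 1) : F.l - ε ∈ F.L := by
  refine FR.mem_L_of_inv c.ss c.le_SAut hI ?_ fun γ hγ => ?_
  · rw [star_sub, eq_sub_of_add_eq' h2, eq_sub_of_add_eq' F.l_add]
    abel
  · have h3 : ε - γ ε ∈ F.L := by
      rcases hH γ hγ ε (Or.inl rfl) with h3 | h3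
      · rw [h3, sub_self]; exact zero_mem _
      · rw [show γ ε = star ε from h3]; exact F.sub_star_mem ε
    convert F.L.add_mem (c.le hγ).2 h3 using 1
    rw [map_sub]
    abel

/-- **linear and unitary groups**: there is a central `z` such that `z - star z` is a unit -/
theorem red_LU (c : Ctx F H p) {z : A} (hz : z ∈ Subring.center A) (hu : IsUnit (z - star z)) (hF : FldD H) :
    ∃ (W : Subring A) (r : ℕ), SymF W r ∧ Inv H W ∧ ¬ Inv F.S W ∧ ∀ γ ∈ H ⊓ F.S, γ ^ r ∈ DS.Cl.Fix (W : Set A) := by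
  have := c.ss.nontrivial
  obtain ⟨hI, Z, hZ, hn, hi⟩ := hF
  rcases exists_symF c.ss c.le_SAut hI hZ hi with e | ⟨W, r, hW, -, hi'⟩
  · refine absurd (fun x hx => ?_) hn
    have h1 := e _ (add_mem hx (hZ.2.1 x hx)) (by rw [star_add, star_star, add_comm])
    have h2 := mul_mem (hZ.1 hz) hx
    have h3 := e _ (add_mem h2 (hZ.2.1 _ h2)) (by rw [star_add, star_star, add_comm])
    have h4 := star_cen hz
    have h5 := sub_mem h3 (mul_mem h4 h1)
    rw [star_mul, Subring.mem_center_iff.1 h4 (star x), show z * x + star z * star x - star z * (x + star x) = (z - star z) * x by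
      noncomm_ring] at h5
    refine Subring.mem_center_iff.2 fun y => hu.mul_left_cancel ?_
    rw [← mul_assoc, ← Subring.mem_center_iff.1 (sub_mem hz h4) y, mul_assoc, ← mul_assoc _ x,
      Subring.mem_center_iff.1 h5]
  · exact ⟨W, r, hW, hi', not_inv_fld c hW.isF hW.not_le, fun γ hγ => hW.pow_fix (hi' γ hγ.1) fun x hx =>
      F.PI_le_Lin (F.S_le_PI hγ.2) x hx.1⟩

/-- torus rings: the centralisers of regular elements of the tori `q^k - 1`, `q^k + 1` -/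
structure TR (R : Subring A) : Prop where
  comm : ∀ x ∈ R, ∀ y ∈ R, x * y = y * x
  star_mem : ∀ x ∈ R, star x ∈ R
  sym : ∀ x ∈ R, star x = x → x ≠ 0 → IsUnit x
  skew : ∀ x ∈ R, star x = -x → x ≠ 0 → IsUnit x

namespace TR

variable {R : Subring A} (h : TR R)
include h

theorem isF : IsF (symS R h.comm) := ⟨fun x hx y hy => h.comm x hx.1 y hy.1, fun x hx h0 => by
  obtain ⟨y, hy⟩ := Finite.surjective_of_injective
    (f := fun y : symS R h.comm => (⟨x * y, mul_mem hx y.2⟩ : symS R h.comm))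
    (fun a b e => Subtype.ext ((h.sym x hx.1 hx.2 h0).mul_left_cancel (congrArg Subtype.val e))) 1
  exact ⟨y, y.2, congrArg Subtype.val hy⟩⟩

/-- a torus ring contains only one symmetric field of each order -/
theorem sub_symF [Nontrivial A] {W : Subring A} (hW : IsF W) (hs : ∀ x ∈ W, star x = x) (h1 : W ≤ R) {t : RingAut A}
    (ht : t ∈ SAut A) {x : A} (hx : x ∈ W) (h2 : t x ∈ R) : t x ∈ W :=
  mem_of_pow h.isF (fun y hy => ⟨h1 hy, hs y hy⟩) ⟨h2, by rw [← ht, hs x hx]⟩ (by rw [← map_pow, pow_card hW hx])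

/-- elements with the same trace and the same norm -/
theorem eq_or {x y : A} (hx : x ∈ R) (hy : y ∈ R) (h1 : y + star y = x + star x) (h2 : y * star y = x * star x) :
    y = x ∨ y = star x := by
  have h3 : star y = x + star x - y := eq_sub_of_add_eq' h1
  by_contra h4
  have h5 := h.skew _ (sub_mem hy hx) (by rw [star_sub, h3]; abel) fun e => h4 (Or.inl (sub_eq_zero.1 e))
  refine h4 (Or.inr (sub_eq_zero.1 (h5.mul_left_cancel ?_)))
  rw [h3, mul_sub, mul_add] at h2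
  rw [mul_zero, sub_mul, mul_sub, mul_sub, ← h2, h.comm x hx y hy]
  abel

end TR

/-- **symmetric fields**: the centraliser of `u ^ j` lies in a torus ring -/
theorem gd_sym (c : Ctx F H p) {W : Subring A} (hW : IsF W) (hs : ∀ x ∈ W, star x = x) (hi : Inv H W) (hS : ¬ Inv F.S W)
    {j : ℕ} (hj : ∀ γ ∈ H ⊓ F.S, γ ^ j ∈ DS.Cl.Fix (W : Set A)) {u : Aˣ} (hu : u ∈ (⁅F.Iso, F.Iso⁆ : Subgroup Aˣ))
    (h1 : ∀ x ∈ W, (u : A) * x = x * u) {R : Subring A} (hR : TR R) (h2 : ∀ x, (u : A) ^ j * x = x * (u : A) ^ j → x ∈ R) :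
    Gd F H := by
  have := c.ss.nontrivial
  exact gd_one c hi hS hu h1 hj fun t ht h x hx => hR.sub_symF hW hs
    (fun y hy => h2 y ((show Commute (u : A) y from h1 y hy).pow_left j)) (F.Aut_le_SAut (F.S_le_Aut ht)) hx (h2 _ (h x hx))

/-- **quadratic rings**: all traces and norms are central -/
theorem gd_quad (c : Ctx F H p) {X : Set A} (hs : ∀ x ∈ X, star x ∈ X) (h3 : ∀ x ∈ X, x + star x ∈ Subring.center A)
    (h4 : ∀ x ∈ X, x * star x ∈ Subring.center A) (hi : Inv H X) (hS : ¬ Inv F.S X)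
    {j : ℕ} (hj : ∀ γ ∈ H ⊓ F.S, γ ^ j ∈ DS.Cl.Fix X) {u : Aˣ} (hu : u ∈ (⁅F.Iso, F.Iso⁆ : Subgroup Aˣ))
    (h1 : ∀ x ∈ X, (u : A) * x = x * u) {R : Subring A} (hR : TR R) (h2 : ∀ x, (u : A) ^ j * x = x * (u : A) ^ j → x ∈ R) :
    Gd F H :=
  gd_one c hi hS hu h1 hj fun t ht h x hx => by
    have h5 := F.Aut_le_SAut (F.S_le_Aut ht)
    have h6 := F.PI_le_Lin (F.S_le_PI ht)
    rcases hR.eq_or (h2 x ((show Commute (u : A) x from h1 x hx).pow_left j)) (h2 _ (h x hx))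
      (by rw [← h5, ← map_add, h6 _ (h3 x hx)]) (by rw [← h5, ← map_mul, h6 _ (h4 x hx)]) with e | e <;> rw [e]
    exacts [hx, hs x hx]

end ring

/-! ### symplectic and orthogonal groups -/

variable {K V : Type} [Field K] [Fintype K] [AddCommGroup V] [Module K V] [Finite V] [Nontrivial V] {h : HF K V}
  {F : FR h.EB} {H : Subgroup (RingAut h.EB)} {p : ℕ} {s κ : K}

/-- an invariant pair of complementary totally singular subspaces -/
structure Pair (F : FR h.EB) (H : Subgroup (RingAut h.EB)) (ε : h.EB) : Prop where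
  idem : ε * ε = ε
  add : ε + star ε = 1
  L : F.l - ε ∈ F.L
  inv : Inv H {ε, star ε}
  ninv : ¬ Inv F.S {ε, star ε}
  pow : ∀ γ ∈ H ⊓ F.S, γ ^ 2 ∈ DS.Cl.Fix {ε, star ε}

/-- an invariant field of prime degree -/
structure Dat {E : Type} [Field E] [Algebra K E] [Module E V] (f : FE h E) (F : FR h.EB) (H : Subgroup (RingAut h.EB))
    (l : h.EB) : Prop where
  mem : l ∈ f.C
  L : F.l - l ∈ F.L
  prime : (finrank K E).Prime
  inv : Inv H f.ι.range
  ninv : ¬ Inv F.S f.ι.range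
  pow : ∀ γ ∈ H ⊓ F.S, γ ^ finrank K E ∈ DS.Cl.Fix (f.ι.range : Set h.EB)
  idx : (DS.Cl.Fix (f.ι.range : Set h.EB)).relIndex (H ⊓ F.S) ∣ finrank K E
  kind : (finrank K E = 2 ∧ ∃ θ, f.σ θ ≠ θ) ∨ ∀ θ, f.σ θ = θ

theorem Pair.swap {ε : h.EB} (P : Pair F H ε) : Pair F H (star ε) := by
  have e : ({star ε, star (star ε)} : Set h.EB) = {ε, star ε} := by rw [star_star, Set.pair_comm]
  refine ⟨by rw [← star_mul, P.idem], by rw [star_star, add_comm, P.add], ?_, e ▸ P.inv, e ▸ P.ninv, e ▸ P.pow⟩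
  have := F.L.add_mem P.L (F.sub_star_mem ε)
  rwa [sub_add_sub_cancel] at this

/-- **criterion for pairs** -/
theorem Pair.gd (c : Ctx F H p) {ε : h.EB} (P : Pair F H ε) {u : h.EBˣ} (hu : u ∈ (⁅F.Iso, F.Iso⁆ : Subgroup h.EBˣ))
    (h1 : (u : h.EB) * ε = ε * u) {R : Subring h.EB} (hR : TR R)
    (h2 : ∀ x, (u : h.EB) ^ 2 * x = x * (u : h.EB) ^ 2 → x ∈ R) : Gd F H := by
  have e : star ε = 1 - ε := eq_sub_of_add_eq' P.add
  refine gd_quad c ?_ ?_ ?_ P.inv P.ninv P.pow hu ?_ hR h2 <;> rintro _ (rfl | rfl)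
  · exact Or.inr rfl
  · exact Or.inl (star_star _)
  · exact P.add ▸ one_mem _
  · rw [star_star, add_comm, P.add]; exact one_mem _
  · rw [e, mul_sub, mul_one, P.idem, sub_self]; exact zero_mem _
  · rw [star_star, e, sub_mul, one_mul, P.idem, sub_self]; exact zero_mem _
  · exact h1
  · rw [e, mul_sub, sub_mul, h1, mul_one, one_mul]

section dat

variable {E : Type} [Field E] [Fintype E] [DecidableEq E] [Algebra K E] [Module E V] [IsScalarTower K E V] {f : FE h E}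
  {l : h.EB}

theorem ι_alg (f : FE h E) (a : K) : f.ι (algebraMap K E a) = h.eb (algebraMap K (End K V) a) :=
  h.ap_ext fun v => by rw [f.ap_ι, algebraMap_smul]; rfl

theorem isF_range (f : FE h E) : IsF f.ι.range :=
  ⟨by rintro _ ⟨a, rfl⟩ _ ⟨b, rfl⟩; rw [← map_mul, ← map_mul, mul_comm], by
    rintro _ ⟨a, rfl⟩ ha
    exact ⟨_, ⟨a⁻¹, rfl⟩, by rw [← map_mul, mul_inv_cancel₀ fun e => ha (by rw [e, map_zero]), map_one]⟩⟩

/-- the fixed field of the involution of a quadratic extension -/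
theorem fix_σ (o : SO h F s κ) (f : FE h E) (h2 : finrank K E = 2) (hσ : ∃ θ, f.σ θ ≠ θ) {z : E} (hz : f.σ z = z) :
    ∃ a, algebraMap K E a = z := by
  let σ : E ≃ₐ[K] E := AlgEquiv.ofBijective ⟨f.σ, f.σ_alg o⟩ (Finite.injective_iff_bijective.1 f.σ.injective)
  have h1 : σ ≠ 1 := fun e => hσ.elim fun θ hθ => hθ (AlgEquiv.congr_fun e θ)
  obtain ⟨τ, -, hτ⟩ := (Nat.card_eq_two_iff' (1 : E ≃ₐ[K] E)).1 ((IsGalois.card_aut_eq_finrank K E).trans h2)
  refine (IsGalois.mem_range_algebraMap_iff_fixed z).2 fun g => ?_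
  by_cases hg : g = 1
  · rw [hg]; rfl
  · rw [(hτ g hg).trans (hτ σ h1).symm]; exact hz

/-- **criterion for fields** -/
theorem Dat.gd (o : SO h F s κ) (c : Ctx F H p) (d : Dat f F H l) {u : h.EBˣ}
    (hu : u ∈ (⁅F.Iso, F.Iso⁆ : Subgroup h.EBˣ)) (h1 : (u : h.EB) ∈ f.C) {R : Subring h.EB} (hR : TR R)
    (h2 : ∀ x, (u : h.EB) ^ finrank K E * x = x * (u : h.EB) ^ finrank K E → x ∈ R) : Gd F H := by
  have h3 : ∀ x ∈ f.ι.range, (u : h.EB) * x = x * u := fun x hx => (h1 x hx).symm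
  rcases d.kind with ⟨k1, k2⟩ | k
  · have h4 : ∀ z, f.σ z = z → f.ι z ∈ Subring.center h.EB := fun z hz => by
      obtain ⟨a, rfl⟩ := fix_σ o f k1 k2 hz
      exact ι_alg f a ▸ alg_cen a
    refine gd_quad c ?_ ?_ ?_ d.inv d.ninv d.pow hu h3 hR h2 <;> rintro _ ⟨z, rfl⟩ <;> rw [f.star_ι]
    · exact ⟨_, rfl⟩
    · rw [← map_add]; exact h4 _ (by rw [map_add, f.σ_σ, add_comm])
    · rw [← map_mul]; exact h4 _ (by rw [map_mul, f.σ_σ, mul_comm])
  · exact gd_sym c (isF_range f) (by rintro _ ⟨z, rfl⟩; rw [f.star_ι, k]) d.inv d.ninv d.pow hu h3 hR h2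

end dat

variable (h F H) in
/-- there is an invariant field of prime degree -/
def Ex : Prop := ∃ (E : Type) (_ : Field E) (_ : Fintype E) (_ : DecidableEq E) (_ : Algebra K E) (_ : Module E V)
  (_ : IsScalarTower K E V) (f : FE h E) (l : h.EB), Dat f F H l

theorem setup (c : Ctx F H p) (hI : Irr1 H) {W : Subring h.EB} (hW : IsF W) (h1 : ComSub W) (hi : Inv H W) {r : ℕ}
    (hr : r.Prime) (hc : Nat.card W = Nat.card K ^ r) (hs : r = 2 ∨ ∀ x ∈ W, star x = x) : Ex h F H := by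
  classical
  have := c.ss.nontrivial
  let := hW.isField.toField
  have := Fintype.ofFinite W
  let : Algebra K W := (RingHom.codRestrict (R := K) (S := h.EB) (algebraMap K (End K V)) W
    fun c => h1.1 (alg_cen c)).toAlgebra
  let : Module W V := Module.compHom V (show W →+* End K V from W.subtype)
  have : IsScalarTower K W V := ⟨fun _ _ _ => rfl⟩
  let f : FE h W :=
    { ι := W.subtype
      σ :=
        { toFun := fun z => ⟨star z, h1.2.1 _ z.2⟩
          map_one' := Subtype.ext (star_one _)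
          map_mul' := fun x y => Subtype.ext ((star_mul x.1 y.1).trans (hW.comm _ (h1.2.1 _ y.2) _ (h1.2.1 _ x.2)))
          map_zero' := Subtype.ext (star_zero _)
          map_add' := fun x y => Subtype.ext (star_add x.1 y.1) }
      ap_ι := fun _ _ => rfl
      star_ι := fun _ => rfl }
  have e : f.ι.range = W := W.range_subtype
  have h2 : finrank K W = r := Nat.pow_right_injective (Finite.one_lt_card (α := K))
    ((Module.natCard_eq_pow_finrank (K := K) (V := W)).symm.trans hc)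
  obtain ⟨B, -, b1, b2⟩ := exists_bd_fld c.ss F c.le hI.1 hI.2 h1.2.1 h1.2.2 hi
  have h3 : Inv (H ⊓ F.S) W := fun γ hγ => hi γ hγ.1
  let φ : ↥(H ⊓ F.S) →* (W ≃ₐ[K] W) :=
    { toFun := fun γ => AlgEquiv.ofRingEquiv (f := resW W h3 γ) fun c => Subtype.ext
        (F.PI_le_Lin (F.S_le_PI γ.2.2) _ (alg_cen c))
      map_one' := rfl
      map_mul' := fun _ _ => rfl }
  have h4 : (DS.Cl.Fix (W : Set h.EB)).subgroupOf (H ⊓ F.S) = φ.ker :=
    Subgroup.ext fun γ => (resW_eq_one h3).symm.trans ⟨fun e => AlgEquiv.ext (RingEquiv.congr_fun e),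
      fun e => RingEquiv.ext (AlgEquiv.congr_fun e)⟩
  refine ⟨W, _, inferInstance, inferInstance, _, _, inferInstance, f, B.l,
    ⟨by rw [FE.C, e]; exact (b1 _).1 B.l_mem, b2, h2 ▸ hr, e.symm ▸ hi, e.symm ▸ not_inv_fld c hW fun h3 => ?_,
      fun γ hγ => ?_, ?_, ?_⟩⟩
  · have h4 := card_le_of_le h3
    rw [hc, card_center (A := h.EB) (RingEquiv.refl (End K V))] at h4
    exact h4.not_gt (by simpa using Nat.pow_lt_pow_right (Finite.one_lt_card (α := K)) hr.one_lt)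
  · rw [e]
    refine (h4.ge (show (⟨γ, hγ⟩ : ↥(H ⊓ F.S)) ^ finrank K W ∈ φ.ker from ?_) :)
    rw [MonoidHom.mem_ker, map_pow, ← IsGalois.card_aut_eq_finrank, pow_card_eq_one']
  · rw [e, Subgroup.relIndex, ← IsGalois.card_aut_eq_finrank, h4, Subgroup.index_ker]
    exact Subgroup.card_subgroup_dvd_card _
  · by_cases h5 : ∀ θ, f.σ θ = θ
    · exact Or.inr h5
    · exact Or.inl ⟨h2.trans (hs.resolve_right fun e => h5 fun θ => Subtype.ext (e _ θ.2)), not_forall.1 h5⟩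

variable (o : SO h F s κ) (c : Ctx F H p)
include o c

theorem pair_of (hI : Irr H) {ε : h.EB} (hi : Inv H {ε, star ε}) (h1 : ε * ε = ε) (h2 : ε + star ε = 1) : Pair F H ε := by
  have := c.ss.nontrivial
  refine ⟨h1, h2, pair_l c hI hi h2, hi, not_inv_pair c fun hz => ?_, fun γ hγ => pair_sq c.le_SAut hi hγ.1⟩
  rw [cen_sym o hz] at h2
  have h3 : ε = 0 := by rw [← add_eq_left (a := ε), ← h1, ← mul_add, h2, mul_one, h1]
  rw [h3, add_zero] at h2
  exact zero_ne_one h2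

theorem ex_two (hI : Irr1 H) {Z : Subring h.EB} (hZ : ComSub Z) (hi : Inv H Z) (hn : ∃ z ∈ Z, star z ≠ z) :
    (∃ ε, Pair F H ε) ∨ Ex h F H := by
  refine or_iff_not_imp_left.2 fun hp => ?_
  have := c.ss.nontrivial
  have hs := ss_of_inv c.ss c.le_SAut hI.1 hI.2 hZ.2.1 hi
  set B := Blk.ofSubring Z hZ.2.1
  have h1 : ∀ x : B.T, x ∈ Subring.center B.T := fun x => B.mem_center_iff.2 fun y hy => hZ.2.2 y hy _ (B.val_mem x)
  have h2 : IsF Z := ⟨hZ.2.2, fun x hx h0 => by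
    refine (Blk.isUnit_val (hs.isUnit_of_not_eps (fun ⟨ε, hε⟩ => ?_) (h1 (B.mk' x hx))
      fun e => h0 (congrArg B.val e))).imp fun y hy => ⟨hy.1, hy.2.1⟩
    have a1 : B.val ε * B.val ε = B.val ε := congrArg B.val hε.idem
    have a2 : B.val ε + star (B.val ε) = 1 := congrArg B.val hε.add
    have a3 : ∀ γ ∈ H, γ (B.val ε) = B.val ε ∨ γ (B.val ε) = star (B.val ε) := fun γ hγ =>
      (hs.eps_unique hε (ε' := B.mk' _ (hi γ hγ _ (B.val_mem ε))) ⟨h1 _, B.val_inj (by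
        change γ _ * γ _ = γ _
        rw [← map_mul, a1]), B.val_inj (by
        change γ _ + star (γ _) = 1
        rw [← c.le_SAut hγ, ← map_add, a2, map_one])⟩).imp (congrArg B.val) (congrArg B.val)
    refine hp ⟨_, pair_of o c hI.1 ?_ a1 a2⟩
    rintro γ hγ _ (rfl | rfl)
    · exact a3 γ hγ
    · rw [c.le_SAut hγ]
      rcases a3 γ hγ with h4 | h4 <;> rw [h4]
      · exact Or.inr rfl
      · exact Or.inl (star_star _)⟩
  obtain ⟨t, t0, ht⟩ := h2.quad (A := h.EB) (RingEquiv.refl (End K V)) hZ.1 hZ.2.1 (fun _ => cen_sym o) hn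
  have hq : 2 ≤ Nat.card K := Finite.one_lt_card
  obtain ⟨W, a1, a2, a3⟩ := h2.sub t0 (hq.trans (Nat.le_self_pow two_ne_zero _)) ht
  refine setup c hI a2 ⟨fun x hx => (a1 x).2 ⟨hZ.1 hx, ?_⟩, fun x hx => (a1 _).2 ⟨hZ.2.1 x ((a1 x).1 hx).1, by
    rw [← star_pow, ((a1 x).1 hx).2]⟩, a2.comm⟩ (fun γ hγ x hx => (a1 _).2 ⟨hi γ hγ x ((a1 x).1 hx).1, by
    rw [← map_pow, ((a1 x).1 hx).2]⟩) Nat.prime_two a3 (Or.inl rfl)
  have a4 := pow_card (isF_of_le h2 hZ.1) hx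
  rw [card_center (A := h.EB) (RingEquiv.refl (End K V))] at a4
  rw [pow_two, pow_mul, a4, a4]

/-- **the reduction** for symplectic and orthogonal groups -/
theorem red (hF : FldD H) : (∃ ε, Pair F H ε) ∨ Ex h F H := by
  obtain ⟨hI, Z, hZ, hn, hi⟩ := hF
  rcases exists_symF c.ss c.le_SAut hI hZ hi with e | ⟨W, r, hW, -, hi'⟩
  · refine ex_two o c hI hZ hi ?_
    by_contra a1
    push Not at a1
    exact hn fun x hx => e x hx (a1 x hx)
  have h1 : C0 h.EB = Subring.center h.EB := le_antisymm (fun _ hx => hx.1) fun _ hx => ⟨hx, cen_sym o hx⟩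
  exact Or.inr (setup c hI hW.isF ⟨h1 ▸ hW.le, fun x hx => by rwa [hW.sym x hx], hW.isF.comm⟩ hi' hW.prime
    (by rw [hW.card, h1, card_center (A := h.EB) (RingEquiv.refl (End K V))]) (Or.inr hW.sym))

end Cfsg.Agent.N2C.Fld
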