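import Cfsg.Agent.N2.Cl.Fld.Tor
import Cfsg.Agent.N2.L2.Main

/-!
# N2 (S3519), class C3 of the orthogonal groups (helper95)

`N2C.fldO : OnO pFld`.
-/

set_option autoImplicit false
set_option linter.unusedSectionVars false

namespace Cfsg.Agent.N2C.Fld

open Cfsg.Agent.DS.Cl Cfsg.Agent.DS.Cl.Fwd Cfsg.Agent.SB.Cl Cfsg.Agent.N2C.Cyc Module
open Cfsg.Agent.TH.Cl (KO)
open Cfsg.Agent.TH.Cl.FSO (SO FE l_add)
open Cfsg.Agent.H689 (Ppd)
open Cfsg.Agent.LieClassical.OrthCore (O Nondeg)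

theorem tri (n : ℕ) : 2 * (n * (n - 1) / 2) + n = n * n := by
  induction n with
  | zero => rfl
  | succ n ih => rw [tri_succ]; nlinarith

theorem num3 {q r m A L I : ℕ} (hq : 3 ≤ q) (hr : 2 ≤ r) (hm : 1 ≤ m) (h7 : 7 ≤ r * (2 * m + 1))
    (hA : A ≤ 3 * q ^ (r * (r - 1) / 2) * (q ^ (r * m) + 1)) (hL : L ≤ r * (2 * (q ^ r) ^ (2 * m ^ 2 + m)))
    (hI : 5 * q ^ (r * (2 * m + 1) * (r * (2 * m + 1) - 1) / 2) ≤ 16 * I) : A ^ 3 * L ≤ I := by
  have a1 := tri r
  have a2 := tri (r * (2 * m + 1))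
  generalize r * (r - 1) / 2 = a at *
  generalize r * (2 * m + 1) * (r * (2 * m + 1) - 1) / 2 = N at *
  have a3 : 3 * (a + r * m) + r * (2 * m ^ 2 + m) + (r + 6) ≤ N := by
    rcases hm.eq_or_lt with rfl | hm
    · obtain ⟨t, rfl⟩ := Nat.exists_eq_add_of_le' (show 3 ≤ r by omega)
      nlinarith [Nat.zero_le (t * t)]
    · obtain ⟨t, rfl⟩ := Nat.exists_eq_add_of_le' hr
      obtain ⟨j, rfl⟩ := Nat.exists_eq_add_of_le' (show 2 ≤ m from hm)
      nlinarith [Nat.zero_le (t * t), Nat.zero_le (j * j), Nat.zero_le (t * j), Nat.zero_le (t * t * j),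
        Nat.zero_le (t * j * j), Nat.zero_le (t * t * j * j)]
  have a4 : 6912 * r ≤ 5 * q ^ (r + 6) := by
    obtain ⟨t, rfl⟩ := Nat.exists_eq_add_of_le' (show 1 ≤ r by omega)
    have b1 : t + 1 ≤ 3 ^ t := Nat.lt_pow_self (by norm_num)
    have b2 : 3 ^ (t + 1 + 6) ≤ q ^ (t + 1 + 6) := Nat.pow_le_pow_left hq _
    rw [add_assoc t, pow_add] at b2
    rw [add_assoc t]
    omega
  have a5 : A ≤ 6 * q ^ (a + r * m) := by
    have b1 : 1 ≤ q ^ (r * m) := Nat.one_le_pow _ _ (by omega)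
    have b2 := Nat.mul_le_mul_left (3 * q ^ a) (show q ^ (r * m) + 1 ≤ 2 * q ^ (r * m) by omega)
    rw [pow_add]
    linarith
  refine Nat.le_of_mul_le_mul_left (le_trans ?_ hI) (by norm_num)
  calc 16 * (A ^ 3 * L) ≤ 16 * ((6 * q ^ (a + r * m)) ^ 3 * (r * (2 * (q ^ r) ^ (2 * m ^ 2 + m)))) := by gcongr
    _ = 6912 * r * q ^ (3 * (a + r * m) + r * (2 * m ^ 2 + m)) := by ring
    _ ≤ 5 * q ^ (r + 6) * q ^ (3 * (a + r * m) + r * (2 * m ^ 2 + m)) := Nat.mul_le_mul_right _ a4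
    _ ≤ 5 * q ^ N := by
      rw [mul_assoc, ← pow_add]
      exact Nat.mul_le_mul_left _ (Nat.pow_le_pow_right (by omega) (by omega))

variable {K V : Type} [Field K] [Fintype K] [AddCommGroup V] [Module K V] [Finite V] {h : HF K V} {F : FR h.EB}
  {Q : QuadraticForm K V} {H : Subgroup (RingAut h.EB)} {p : ℕ}

theorem card_O_le3 (hQ : Nondeg Q) : Nat.card (O Q) ≤ 3 * Fintype.card K ^ (finrank K V * (finrank K V - 1) / 2) := by
  by_cases h2 : finrank K V = 2
  · have := card_O_two hQ h2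
    have := two_le_q K
    rw [h2, show 2 * (2 - 1) / 2 = 1 from rfl, pow_one]
    omega
  · have := card_O_le hQ h2
    omega

/-- **the centraliser of an isometry of primitive prime order** -/
theorem cO_le_ppd (o : IsO h F Q) {u : h.EBˣ} (hu : u ∈ F.Iso) {e r s : ℕ} (hs : Ppd (Nat.card K) e s) (h1 : orderOf u = s)
    (h3 : 3 ≤ e) (hn : finrank K V = r + e) (hr : r < e) :
    cO F u ≤ 3 * Fintype.card K ^ (r * (r - 1) / 2) * (Fintype.card K ^ (e / 2) + 1) := by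
  have : Module.Finite K V := Module.Finite.of_finite
  have : Fact s.Prime := ⟨hs.prime⟩
  have a0 : u ^ s = 1 := h1 ▸ pow_orderOf_eq_one u
  have a1 : (s : K) ≠ 0 := fun e => hs.not_dvd (by
    rw [Nat.card_eq_fintype_card, ← prime_dvd_char_iff_dvd_card]
    exact (((Nat.dvd_prime hs.prime).1 (ringChar.dvd e)).resolve_left CharP.ringChar_ne_one).symm ▸ dvd_rfl)
  have a2 := (h.unit_iff u).1 hu.1
  obtain ⟨T, hT⟩ : ∃ T : End K V, ∀ v, T v = h.ap u v - v := ⟨h.ap u - 1, fun _ => rfl⟩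
  have b1 : ∀ v, v ∈ LinearMap.ker T ↔ h.ap u v = v := fun v => by rw [LinearMap.mem_ker, hT, sub_eq_zero]
  have b2 : ∀ v ∈ LinearMap.range T, h.ap u v = v → v = 0 := by
    rintro _ ⟨x, rfl⟩ hx
    have k1 : ∀ j : ℕ, h.ap (u ^ j : h.EBˣ) x = x + (j : K) • T x := fun j => by
      induction j with
      | zero => rw [pow_zero, Nat.cast_zero, zero_smul, add_zero]; rfl
      | succ j ih =>
        rw [pow_succ', Units.val_mul, h.ap_mul, ih, map_add, map_smul, hx, Nat.cast_succ, add_smul, one_smul, hT]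
        abel
    have k2 := k1 s
    rw [a0, Units.val_one, h.ap_one, left_eq_add] at k2
    exact (smul_eq_zero.1 k2).resolve_left a1
  have b3 := T.finrank_range_add_finrank_ker
  have b4 : LinearMap.ker T ⊔ LinearMap.range T = ⊤ := Submodule.eq_top_of_finrank_eq (by
    have k1 := Submodule.finrank_sup_add_finrank_inf_eq (LinearMap.ker T) (LinearMap.range T)
    rw [show LinearMap.ker T ⊓ LinearMap.range T = ⊥ from eq_bot_iff.2 fun v hv => b2 v hv.2 ((b1 v).1 hv.1),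
      finrank_bot] at k1
    omega)
  have b5 : finrank K (LinearMap.range T) = e := by
    have k1 := H62.PCGeo.dvd_sub_top (g := unE h u) hs (by rw [← map_pow, a0, map_one])
    have k2 := H62.PCGeo.finrank_Fx_lt (g := unE h u) fun e => hs.prime.one_lt.ne' (by
      rw [← h1, (unE h).map_eq_one_iff.1 e, orderOf_one])
    rw [show H62.PCGeo.Fx (unE h u) = LinearMap.ker T from Submodule.ext fun v => (b1 v).symm] at k1 k2
    obtain ⟨t, ht⟩ := k1
    rcases t with _ | _ | t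
    · omega
    · omega
    · rw [mul_add, mul_add] at ht; omega
  have b6 : ∀ v ∈ LinearMap.range T, (∀ w ∈ LinearMap.range T, h.b w v = 0) → v = 0 := fun v hv H =>
    b2 v hv (h.ext_right fun y => by
      have k1 := H _ ⟨h.ap (u⁻¹ : h.EBˣ) y, rfl⟩
      rw [hT, h.sub_left, SB.Tor.ap_ap_inv, ← a2 (h.ap _ y), SB.Tor.ap_ap_inv, sub_eq_zero] at k1
      exact k1.symm)
  have b7 : ∀ x : h.EB, x * u = u * x → ∀ v, h.ap x (T v) = T (h.ap x v) := fun x hx v => by
    rw [hT, hT, map_sub, ← h.ap_mul, hx, h.ap_mul]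
  have b8 : ∀ x : h.EB, x * u = u * x → ∀ v ∈ LinearMap.range T, h.ap x v ∈ LinearMap.range T := by
    rintro x hx _ ⟨v, rfl⟩
    exact ⟨_, (b7 x hx v).symm⟩
  refine (cO_le_O_mul o b6 b4 (fun x hx v hv => by rw [LinearMap.mem_ker, ← b7 x hx, hv, map_zero]) b8).trans
    (Nat.mul_le_mul ?_ ?_)
  · rw [show r = finrank K (LinearMap.ker T) by omega]
    refine card_O_le3 fun x hx => Subtype.ext (h.nondeg _ fun v => ?_)
    obtain ⟨y, hy, _, ⟨z, rfl⟩, rfl⟩ := Submodule.mem_sup.1 (b4.ge (Submodule.mem_top (x := v)))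
    have k1 : h.b x y = 0 := (o.2.1 _ _).trans (hx ⟨y, hy⟩)
    rw [h.add_left, SB.Tor.O_symm o y, k1, hT, h.sub_left, ← a2 z, (b1 _).1 x.2, sub_self, add_zero]
  have c0 := rs_unit b6 (b8 u rfl) hu.1
  have c1 : ∀ (j : ℕ) (v : LinearMap.range T), ((res h _ b6).ap (mkU _ c0 ^ j : (res h _ b6).EBˣ) v : V) =
      h.ap (u ^ j : h.EBˣ) v := fun j => by
    induction j with
    | zero => exact fun _ => rfl
    | succ j ih => exact fun v => by rw [pow_succ, pow_succ, Units.val_mul, Units.val_mul, HF.ap_mul, ih]; rfl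
  have c2 : mkU _ c0 ^ s = 1 := Units.ext (HF.ap_ext _ fun v => Subtype.ext ((c1 s v).trans (by rw [a0]; rfl)))
  have c3 : mkU _ c0 ≠ 1 := fun k => by
    have k1 : LinearMap.range T = ⊥ := eq_bot_iff.2 fun v hv => b2 v hv (by
      have k1 := c1 1 ⟨v, hv⟩
      rw [k, pow_one, pow_one] at k1
      exact k1.symm)
    rw [k1, finrank_bot] at b5
    omega
  rw [← b5]
  refine cU_le_irr_bil (h := res h _ b6) o.1 c0 (fun W hW => H62.PCGeo.irr (g := unE _ (mkU _ c0)) (b5.symm ▸ hs)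
    (by rw [← map_pow, c2, map_one]) (fun e => c3 ((unE _).map_eq_one_iff.1 e)) hW) fun k => c3 ?_
  obtain ⟨t, ht⟩ := hs.prime.odd_of_ne_two (hs.two_lt h3).ne'
  rwa [ht, pow_succ, pow_mul, pow_two, show mkU _ c0 * mkU _ c0 = 1 from Units.ext k, one_pow, one_mul] at c2

variable [Nontrivial V] {E : Type} [Field E] [Fintype E] [DecidableEq E] [Algebra K E] [Module E V] [IsScalarTower K E V]
  {f : FE h E} {l : h.EB}

theorem mem_C_of_fix {u : h.EBˣ} (hu : cj h.EB u ∈ DS.Cl.Fix (f.ι.range : Set h.EB)) : (u : h.EB) ∈ f.C :=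
  f.mem_C.2 fun z => by rw [← cj_mul_eq u, hu _ ⟨z, rfl⟩]

theorem card_Lf_le (o : SO h F 1 1) (d : Dat f F H l) (hL : (fE o d).L = Lmax _) :
    Nat.card (Lf F H) ≤ finrank K E * Nat.card (fE o d).Iso := by
  have h1 : (Lf F H).map (cj h.EB) = H ⊓ F.S :=
    le_antisymm (by rintro _ ⟨u, hu, rfl⟩; exact ⟨hu.1, u, hu.2, rfl⟩) (by
      rintro _ ⟨k1, u, k2, rfl⟩; exact ⟨u, ⟨k1, k2⟩, rfl⟩)
  have h2 := d.idx
  rw [← h1, ← Subgroup.relIndex_comap] at h2
  rw [← Subgroup.index_mul_card (((DS.Cl.Fix (f.ι.range : Set h.EB)).comap (cj h.EB)).subgroupOf (Lf F H))]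
  refine Nat.mul_le_mul (Nat.le_of_dvd d.prime.pos h2) ?_
  rw [← Subgroup.card_map_of_injective (K := (fE o d).Iso) (f := Units.map (up f o : (hE f o).EB →* h.EB))
    (Units.map_injective up_inj), ← Subgroup.card_map_of_injective (Lf F H).subtype_injective]
  refine Subgroup.card_le_of_le ?_
  rintro _ ⟨u, hu, rfl⟩
  obtain ⟨a, ha⟩ := exists_up (o := o) (mem_C_of_fix hu)
  have h3 : a * star a = 1 := up_inj (by rw [map_mul, up_star, ha, map_one]; exact (F.comm_le_Iso u.2.2).1)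
  exact ⟨mkU a h3, mem_Iso_max hL h3, Units.ext ha⟩

/-- the normaliser of a symmetric field of degree `dim V` -/
theorem one_false (c : Ctx F H p) (d : Dat f F H l) (hσ : ∀ θ, f.σ θ = θ) (hm : finrank E V = 1) : False := by
  have := finAut (A := h.EB)
  have := c.simple
  have : Fact (finrank K E).Prime := ⟨d.prime⟩
  obtain ⟨v, v0, hv⟩ := finrank_eq_one_iff'.1 hm
  have h1 : (DS.Cl.Fix (f.ι.range : Set h.EB)).subgroupOf (H ⊓ F.S) = ⊥ := eq_bot_iff.2 (by
    rintro ⟨_, k0, u, hu, rfl⟩ k1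
    obtain ⟨z, hz⟩ := hv (h.ap u v)
    have k2 : (u : h.EB) = f.ι z := h.ap_ext fun w => by
      obtain ⟨y, rfl⟩ := hv w
      rw [f.lin (mem_C_of_fix k1), ← hz, f.ap_ι, smul_comm]
    have k3 := (F.comm_le_Iso hu).1
    rw [k2, f.star_ι, hσ, ← map_mul, ← map_one f.ι] at k3
    refine Subtype.ext (RingEquiv.ext fun x => cj_eq_of_mul ?_)
    rcases mul_self_eq_one_iff.1 (f.ι_inj k3) with e | e <;> rw [k2, e] <;> simp)
  have h2 := d.idx
  rw [Subgroup.relIndex, h1, Subgroup.index_bot, ← card_sub] at h2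
  have h3 := isCyclic_of_card_dvd_prime h2
  refine N2.L2.not_ab c.mi (r := finrank K E) (IsPGroup.of_card_dvd_pow (n := 1) (by rwa [pow_one])) fun x hx y hy => ?_
  let := IsCyclic.commGroup (α := H.subgroupOf F.S)
  exact congrArg Subtype.val (mul_comm (⟨x, hx⟩ : H.subgroupOf F.S) ⟨y, hy⟩)

/-- orthogonal groups of odd dimension over the extension field -/
theorem gd_odd (k : KO h F Q) (c : Ctx F H p) (d : Dat f F H l) (hσ : ∀ θ, f.σ θ = θ) {m : ℕ}
    (hm : finrank E V = 2 * m + 1) : Gd F H := by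
  have h0 : 1 ≤ m := Nat.pos_of_ne_zero fun e => one_false c d hσ (by rw [hm, e])
  have o := TH.Cl.FSO.KO.so k
  obtain ⟨Q', o'⟩ := exists_QE (o := o) d hσ
  have h7 := k.dim
  have hn := finrank_mul_finrank K E V
  have h2 := two_ne_of_odd (nondeg_of_O o') ⟨m, hm⟩
  have h3 : 3 ≤ Fintype.card K := lt_of_le_of_ne (two_le_q K) fun e => h2 (by
    have k1 := FiniteField.cast_card_eq_zero K
    rw [← e] at k1
    rw [← map_ofNat (algebraMap K E) 2, show (OfNat.ofNat 2 : K) = 0 from k1, map_zero])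
  have hL : (fE o d).L = Lmax _ := Lmin_eq_Lmax ((hE f o).smul_mem_center 2⁻¹) (by
    rw [Size.star_scal, Size.scal_add, o'.1, ← two_mul, mul_inv_cancel₀ h2, Size.scal_one])
  have hr := d.prime.two_le
  have h4 := Nat.mul_le_mul_left (finrank K E) h0
  have h5 : finrank K V = finrank K E + 2 * (finrank K E * m) := by rw [← hn, hm]; ring
  obtain ⟨s, hs⟩ := H689.exists_ppd (q := Nat.card K) (k := 2 * (finrank K E * m)) Finite.one_lt_card (by omega)
    (by rw [Nat.card_eq_fintype_card]; omega)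
  have h6 : Nat.card (fE o d).Iso = 2 * oSp m (Fintype.card K ^ finrank K E) := by
    rw [card_Iso_O o', card_O_odd (nondeg_of_O o') hm, card_E (K := K)]
  obtain ⟨u, a1, a2, a3⟩ := exists_ord (o := o) d hs.prime (by
    obtain ⟨m, rfl⟩ := Nat.exists_eq_add_of_le' h0
    rw [h6, oSp, PP_succ, ← pow_mul _ _ (2 * _), mul_left_comm _ 2 (m + 1), ← Nat.card_eq_fintype_card]
    exact ((((hs.iff _).2 dvd_rfl).mul_left _).mul_left _).mul_left _)
  have a4 := mem_I0_of_odd k a1 (hs.prime.odd_of_ne_two (hs.two_lt (by omega)).ne') (a3 ▸ pow_orderOf_eq_one u)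
  have a5 := cO_le_ppd k.o a1 hs a3 (by omega) h5 (by omega)
  rw [Nat.mul_div_cancel_left _ two_pos] at a5
  refine gd_of_lift a4 (c.mem_of_inv d.inv d.ninv ⟨u, a4, rfl⟩ fun x hx => (cj_eq_of_mul (a2 x hx).symm).symm ▸ hx)
    ((cn_le a4).trans (cI_le_cO F u)) (num3 h3 hr h0 (by rwa [← hm, hn]) a5 ((card_Lf_le o d hL).trans ?_) ?_)
  · rw [h6]
    exact Nat.mul_le_mul_left _ (Nat.mul_le_mul_left _ (oSp_le _ _))
  · have b1 := card_O_ge (nondeg_of_O k.o) h7
    have b2 := card_O_le_I0 k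
    rw [← hm, hn]
    omega

end Cfsg.Agent.N2C.Fld

namespace Cfsg.Agent.N2C

open Module

/-- **[Fld, O]** -/
theorem fldO : OnO pFld := fun K V _ _ _ _ _ h F Q H p k c hF => by
  have : Nontrivial V := Module.nontrivial_of_finrank_pos (R := K) (by have := k.dim; omega)
  rcases Fld.red (TH.Cl.FSO.KO.so k) c hF with ⟨ε, P⟩ | ⟨E, _, _, _, _, _, _, f, l, d⟩
  · exact Fld.gd_pair k c P
  rcases d.kind with ⟨h2, hσ⟩ | hσ
  · exact Fld.gd_uni k c d h2 hσ
  obtain ⟨m, hm | hm⟩ := Nat.even_or_odd' (finrank E V)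
  exacts [Fld.gd_even k c d hσ hm, Fld.gd_odd k c d hσ hm]

end Cfsg.Agent.N2C
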