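import Cfsg.Agent.N2.Cl.Fld.Red
import Cfsg.Agent.N2.Cl.FldSp.MC
import Cfsg.Agent.N2.Cl.Cyc.Vec
import Cfsg.Agent.N2.Cl.Kind
import Cfsg.Agent.H875.KB.Gen
import Cfsg.Agent.H62.PCGeo

/-!
# N2 (S3519), class C3 of the orthogonal groups: the tori `q ^ k - 1` and `q ^ k + 1` (helper95)

`hE`, `up`, `fE` : the form ring over the extension field; `split`, `sing` : the two tori.
-/

set_option autoImplicit false
set_option linter.unusedSectionVars false

namespace Cfsg.Agent.N2C.Fld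

open Cfsg.Agent.DS.Cl Cfsg.Agent.DS.Cl.Fwd Cfsg.Agent.SB.Cl Cfsg.Agent.N2C.Cyc Module
open Cfsg.Agent.TH.Cl (KO)
open Cfsg.Agent.TH.Cl.FSO (SO FE l_add)
open Cfsg.Agent.H689 (Ppd)

theorem num2 {q k i r c : ℕ} (hq : 2 ≤ q) (hk : 4 ≤ k) (hi : 2 * i ≤ k) (hr : r = 2 ∨ (r.Prime ∧ r ∣ k)) (c0 : 0 < c)
    (hc : c ≤ q ^ i + 1) : ¬ q ^ k - 1 ∣ 2 * r * c := fun h => by
  by_cases h2 : q = 2
  · subst h2
    refine FldSp.num hq (by omega) hi hr c0 hc (Nat.Coprime.dvd_of_dvd_mul_left ?_ (mul_assoc 2 r c ▸ h))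
    exact Nat.coprime_two_right.2 (Nat.Even.sub_odd (Nat.one_le_pow _ _ two_pos) (even_two.pow_of_ne_zero (by omega)) odd_one)
  have r0 : 0 < r := hr.elim (fun e => by omega) fun e => e.1.pos
  have r1 : r ≤ k := hr.elim (fun e => by omega) fun e => Nat.le_of_dvd (by omega) e.2
  have h1 := (Nat.le_of_dvd (by positivity) h).trans (Nat.mul_le_mul_left _ hc)
  obtain ⟨j, rfl⟩ := Nat.exists_eq_add_of_le (show i ≤ k by omega)
  have h3 : 3 ^ j ≤ q ^ j := Nat.pow_le_pow_left (by omega) j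
  have h4 : 3 ^ i ≤ q ^ i := Nat.pow_le_pow_left (by omega) i
  rw [pow_add] at h1
  by_cases h5 : j = 2
  · obtain rfl : i = 2 := by omega
    obtain rfl : r = 2 := hr.elim id fun e =>
      (Nat.prime_dvd_prime_iff_eq e.1 Nat.prime_two).1 (e.1.dvd_of_dvd_pow (show r ∣ 2 ^ 2 by simpa [h5] using e.2))
    have := Nat.mul_le_mul_left (q ^ 2) h3
    rw [h5] at this h1
    omega
  have h6 : ∀ j, 3 ≤ j → 8 * j + 2 ≤ 3 ^ j := fun j hj => by
    induction j, hj using Nat.le_induction with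
    | base => norm_num
    | succ j _ ih => rw [pow_succ]; omega
  have h7 := Nat.mul_le_mul_left (q ^ i) (show 4 * r + 2 ≤ q ^ j from le_trans (by omega) ((h6 j (by omega)).trans h3))
  have h8 : 1 ≤ q ^ i := Nat.one_le_pow _ _ (by omega)
  have h9 := Nat.mul_le_mul_left r h8
  generalize q ^ i = a at *
  have : a * (4 * r + 2) = 4 * (r * a) + 2 * a := by ring
  have : 2 * r * (a + 1) = 2 * (r * a) + 2 * r := by ring
  omega

theorem split_gen2 {K L : Type} [Field K] [Fintype K] [Field L] [Finite L] [Algebra K L] {r : ℕ} (hk : 4 ≤ finrank K L)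
    (hr : r = 2 ∨ (r.Prime ∧ r ∣ finrank K L)) :
    ∃ g : L, g ≠ 0 ∧ Algebra.adjoin K {((g, g⁻¹) : L × L) ^ (2 * r)} = ⊤ := by
  obtain ⟨g, g0, hg⟩ := FldSp.exists_gen (K := K) (L := L)
  have hq : 2 ≤ Fintype.card K := Fintype.one_lt_card
  refine ⟨g, g0, ?_⟩
  rw [Prod.pow_mk, inv_pow]
  refine FldSp.adjoin_pair (FldSp.eq_one_of (pow_ne_zero _ g0) fun i i0 hi e => ?_) fun θ e => ?_
  · rw [← pow_mul, hg] at e
    exact num2 hq hk hi hr (Nat.sub_pos_of_lt (Nat.one_lt_pow i0.ne' hq)) (by omega) e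
  have h1 : ∀ θ : L ≃ₐ[K] L, θ (g ^ (2 * r)) = (g ^ (2 * r))⁻¹ → ∀ i, 2 * i ≤ finrank K L →
      (∀ x, θ x = x ^ Fintype.card K ^ i) → False := fun θ e i hi h1 =>
    num2 hq hk hi hr (Nat.succ_pos _) le_rfl ((hg _).1 (by
      rw [pow_mul, pow_succ, ← h1, e, inv_mul_cancel₀ (pow_ne_zero _ g0)]))
  obtain ⟨i, hi, h2 | h2⟩ := FldSp.gal_half θ
  · exact h1 θ e i hi h2
  · exact h1 θ⁻¹ (θ.symm_apply_eq.2 (by rw [map_inv₀, e, inv_inv])) i hi h2

theorem mem_Iso_of {A : Type} [Ring A] [StarRing A] {F : FR A} {l : A} (hl : F.l - l ∈ F.L) {v : Aˣ}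
    (h1 : (v : A) * star (v : A) = 1) (h2 : (v : A) * l * star (v : A) - l ∈ F.L) : v ∈ F.Iso := by
  refine ⟨h1, ?_⟩
  convert F.L.add_mem (F.L.sub_mem (F.conj_mem hl v) hl) h2 using 1
  noncomm_ring

variable {K V : Type} [Field K] [Fintype K] [AddCommGroup V] [Module K V] [Finite V] {h : HF K V} {F : FR h.EB}
  {Q : QuadraticForm K V} {H : Subgroup (RingAut h.EB)} {p : ℕ}

theorem sq_mem (k : KO h F Q) {v : h.EBˣ} (hv : v ∈ F.Iso) : v * v ∈ I0 F := by
  rw [mem_I0_O k, map_mul]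
  exact H875.KB.sq_mem_E k.good ((map_Iso_O k.o).le ⟨v, hv, rfl⟩)

theorem mem_I0_of_odd (k : KO h F Q) {u : h.EBˣ} (hu : u ∈ F.Iso) {s : ℕ} (hs : Odd s) (h1 : u ^ s = 1) : u ∈ I0 F := by
  obtain ⟨t, rfl⟩ := hs
  have h2 := sq_mem k (pow_mem hu (t + 1))
  rwa [← pow_add, show t + 1 + (t + 1) = 2 * t + 1 + 1 by ring, pow_succ, h1, one_mul] at h2

/-- a pair of totally singular subspaces in a space of plus type -/
theorem eps_plus (o : IsO h F Q) (hP : H955.IsPlus Q) : ∃ ε : h.EB, ε * ε = ε ∧ ε + star ε = 1 ∧ F.l - ε ∈ F.L := by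
  have : Module.Finite K V := Module.Finite.of_finite
  obtain ⟨U, hU, hd⟩ := hP
  obtain ⟨U', hc⟩ := U.exists_isCompl
  obtain ⟨e, e1, e2⟩ : ∃ e : h.EB, (∀ v, h.ap e v ∈ U) ∧ ∀ v ∈ U, h.ap e v = v :=
    ⟨h.eb (U.subtype ∘ₗ U.projectionOnto U' hc), fun v => (U.projectionOnto U' hc v).2, fun v hv =>
      congrArg Subtype.val (Submodule.projectionOnto_apply_left hc ⟨v, hv⟩)⟩
  have a1 : ∀ u ∈ U, ∀ v ∈ U, h.b u v = 0 := fun u hu v hv => by
    have := SB.Tor.O_add o u v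
    rwa [hU _ (add_mem hu hv), hU u hu, hU v hv, add_zero, zero_add, eq_comm] at this
  have a2 : U = LinearMap.BilinForm.orthogonal (QuadraticMap.polarBilin Q) U := by
    refine Submodule.eq_of_le_of_finrank_le (fun v hv u hu => (o.2.1 u v).symm.trans (a1 u hu v hv)) ?_
    have a2 := LinearMap.BilinForm.finrank_add_finrank_orthogonal' (B := QuadraticMap.polarBilin Q) U
    rw [show LinearMap.ker (QuadraticMap.polarBilin Q) = ⊥ from eq_bot_iff.2 fun x hx =>
      nondeg_of_O o x (LinearMap.congr_fun hx), inf_bot_eq, finrank_bot] at a2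
    omega
  have a3 : e * star (1 - e) = star (1 - e) := h.ap_ext fun v => e2 _ (a2.ge fun u hu => (o.2.1 _ _).symm.trans
    ((h.b_star _ u v).trans (by rw [h.ap_sub, e2 u hu, h.ap_one, sub_self, h.zero_left])))
  have a4 : e * e = e := h.ap_ext fun v => e2 _ (e1 v)
  have a5 : star e * e = 0 := h.ap_ext fun v => h.ext_right fun u => by
    rw [h.ap_mul, h.b_star, a1 _ (e1 _) _ (e1 _)]; exact (h.zero_right u).symm
  have a6 : (1 - e) * e = 0 := by rw [sub_mul, a4, one_mul, sub_self]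
  have a7 : (1 - e) * star (1 - e) = 0 := by rw [sub_mul, a3, one_mul, sub_self]
  refine ⟨e + star (1 - e) * F.l * (1 - e), ?_, ?_, (SB.Tor.mem_L_O o _).2 fun v => ?_⟩
  · rw [add_mul, mul_add, mul_add, a4, mul_assoc _ _ e, a6, mul_assoc _ (1 - e), ← mul_assoc (1 - e), ← mul_assoc (1 - e), a7,
      ← mul_assoc e, ← mul_assoc e, a3]
    simp
  · rw [star_add, star_mul, star_mul, star_star, add_add_add_comm, ← mul_assoc, ← add_mul, ← mul_add, F.l_add, mul_one,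
      star_sub, star_one, sub_mul, mul_sub (star e), a5]
    noncomm_ring
  · have b1 := SB.Tor.O_add o (h.ap e v) (h.ap (1 - e) v)
    rw [← h.ap_add, add_sub_cancel, h.ap_one, hU _ (e1 v)] at b1
    rw [h.ap_sub, h.ap_add, h.sub_right, h.add_right, h.ap_mul, h.ap_mul, h.b_star, o.2.2.2, o.2.2.2, b1, h.ap_sub 1,
      h.sub_right, a1 _ (e1 v) _ (e1 v), h.ap_one, SB.Tor.O_symm o v]
    ring

variable [Nontrivial V]

/-- **the split torus** -/
theorem split (k : KO h F Q) {E : Type} [Field E] [Finite E] [Algebra K E] [Module E V] [IsScalarTower K E V] {ε : h.EB}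
    (h1 : ε * ε = ε) (h2 : ε + star ε = 1) (hL : F.l - ε ∈ F.L) (h3 : ∀ (z : E) v, h.ap ε (z • v) = z • h.ap ε v) {r : ℕ}
    (hr : r = 2 ∨ (r.Prime ∧ r = finrank K E)) : ∃ u ∈ I0 F, ∃ R : Subring h.EB, TR R ∧
      (∀ x, (u : h.EB) ^ r * x = x * (u : h.EB) ^ r → x ∈ R) ∧ (u : h.EB) ∈ R ∧
        ∀ z : E, ∃ y ∈ R, ∀ v, h.ap y v = z • h.ap ε v := by
  obtain ⟨L, _, _, _, _, _, m, a1, a2, a3⟩ := FldSp.exists_split (E := E) k.o.1 h1 h2 h3
  obtain ⟨g, g0, hg⟩ := split_gen2 (K := K) (L := L) (r := r) (by have := k.dim; omega)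
    (hr.imp_right fun e => ⟨e.1, e.2 ▸ Dvd.intro _ (finrank_mul_finrank K E L)⟩)
  have b1 := m.uni (g := (g, g⁻¹)) (by rw [a2, Prod.mk_mul_mk, mul_inv_cancel₀ g0, inv_mul_cancel₀ g0]; rfl)
  have b2 : ε = m.j (1, 0) := h.ap_ext fun v => by rw [← map_one (algebraMap E L), a3, one_smul]
  have b3 : ∀ x y : L, x ≠ 0 → y ≠ 0 → IsUnit (m.j (x, y)) := fun x y hx hy =>
    (Prod.isUnit_iff.2 ⟨IsUnit.mk0 x hx, IsUnit.mk0 y hy⟩).map m.j
  refine ⟨_, sq_mem k (mem_Iso_of hL (v := mkU _ b1) b1 ?_), m.j.range, ⟨?_, ?_, ?_, ?_⟩, fun x hx => m.mem hg ?_,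
    ⟨_, map_mul _ _ _⟩, fun z => ⟨_, ⟨_, rfl⟩, a3 z⟩⟩
  · rw [mkU_val, b2, ← map_mul, mul_comm, map_mul, mul_assoc, b1, mul_one, sub_self]
    exact zero_mem _
  · rintro _ ⟨x, rfl⟩ _ ⟨y, rfl⟩
    rw [← map_mul, ← map_mul, mul_comm]
  · rintro _ ⟨x, rfl⟩
    exact ⟨_, (m.star_j x).symm⟩
  · rintro _ ⟨⟨x, y⟩, rfl⟩ e e0
    rw [m.star_j, a2] at e
    obtain rfl : y = x := congrArg Prod.fst (m.inj e)
    have : y ≠ 0 := by rintro rfl; exact e0 (map_zero _)
    exact b3 _ _ this this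
  · rintro _ ⟨⟨x, y⟩, rfl⟩ e e0
    rw [m.star_j, a2, ← map_neg] at e
    obtain rfl : y = -x := congrArg Prod.fst (m.inj e)
    have : x ≠ 0 := by rintro rfl; exact e0 (by rw [neg_zero]; exact map_zero _)
    exact b3 _ _ this (neg_ne_zero.2 this)
  · rwa [map_pow, pow_mul, pow_two]

theorem gd_pair (k : KO h F Q) (c : Ctx F H p) {ε : h.EB} (P : Pair F H ε) : Gd F H := by
  obtain ⟨u, hu, R, a1, a2, a3, a4⟩ := split k (E := K) P.idem P.add P.L (fun z v => map_smul _ z v) (Or.inl rfl)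
  obtain ⟨y, hy, e⟩ := a4 1
  obtain rfl : y = ε := h.ap_ext fun v => by rw [e, one_smul]
  exact P.gd c hu (a1.comm _ a3 _ hy) a1 a2

/-- irreducible isometries -/
theorem tr_of_irr {w : h.EB} (hw : w * star w = 1) (hi : IrrV (h.ap w)) : TR (Subring.centralizer {w}) := by
  have h1 : ∀ x, x ∈ Subring.centralizer {w} ↔ x * w = w * x := fun x =>
    ⟨fun hx => (hx w rfl).symm, by rintro hx _ rfl; exact hx.symm⟩
  have : Module.Finite K V := Module.Finite.of_finite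
  exact ⟨fun x hx y hy => (cycV_of_irr hi).comm ((h1 x).1 hx) ((h1 y).1 hy),
    fun x hx => (h1 _).2 (star_comm hw (mul_eq_one_comm.1 hw) ((h1 x).1 hx)),
    fun x hx _ h0 => hi.isUnit ((h1 x).1 hx) h0, fun x hx _ h0 => hi.isUnit ((h1 x).1 hx) h0⟩

variable {E : Type} [Field E] [Fintype E] [DecidableEq E] [Algebra K E] [Module E V] [IsScalarTower K E V] {f : FE h E}
  {l : h.EB}

theorem gd_split (k : KO h F Q) (c : Ctx F H p) (d : Dat f F H l) {ε : h.EB} (h1 : ε * ε = ε) (h2 : ε + star ε = 1)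
    (hL : F.l - ε ∈ F.L) (h3 : ε ∈ f.C) : Gd F H := by
  obtain ⟨u, hu, R, a1, a2, a3, a4⟩ := split k (E := E) h1 h2 hL (f.lin h3) (Or.inr ⟨d.prime, rfl⟩)
  refine d.gd (TH.Cl.FSO.KO.so k) c hu (f.mem_C.2 fun z => a1.comm _ ?_ _ a3) a1 a2
  have a5 : ∀ z, f.ι z * ε ∈ R := fun z => by
    obtain ⟨y, hy, e⟩ := a4 z
    rwa [show y = f.ι z * ε from h.ap_ext fun v => by rw [e, h.ap_mul, f.ap_ι]] at hy
  have a6 := add_mem (a5 z) (a1.star_mem _ (a5 (f.σ z)))
  rwa [star_mul, f.star_ι, f.σ_σ, ← f.mem_C.1 (f.star_mem h3), ← mul_add, h2, mul_one] at a6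

/-- **the Singer cycle** -/
theorem gd_sing (k : KO h F Q) (c : Ctx F H p) (d : Dat f F H l) {u : h.EBˣ} (hu : u ∈ F.Iso) (hC : (u : h.EB) ∈ f.C)
    {s : ℕ} (hs : Ppd (Nat.card K) (finrank K V) s) (h1 : orderOf u = s) : Gd F H := by
  have h7 := k.dim
  have a1 : u ^ s = 1 := h1 ▸ pow_orderOf_eq_one u
  have a2 : u ^ finrank K E ≠ 1 := fun e => by
    have a2 := Nat.le_of_dvd d.prime.pos (h1 ▸ orderOf_dvd_of_pow_eq_one e)
    have a3 := Nat.le_of_dvd (by omega) (Dvd.intro _ (finrank_mul_finrank K E V))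
    have a4 := hs.le (by omega)
    omega
  refine d.gd (TH.Cl.FSO.KO.so k) c (mem_I0_of_odd k hu (hs.prime.odd_of_ne_two (hs.two_lt (by omega)).ne') a1) hC
    (tr_of_irr (pow_mem hu (finrank K E)).1 fun W hW => H62.PCGeo.irr (g := unE h (u ^ finrank K E)) hs
      (by rw [← map_pow, pow_right_comm, a1, one_pow, map_one]) (fun e => a2 ((unE h).map_eq_one_iff.1 e)) hW) ?_
  rintro x hx _ rfl
  exact hx

/-! ### the form ring over the extension field -/

variable (f) (o : SO h F 1 1)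

/-- the form with values in `E` -/
def hE : HF E V := ⟨f.σ, 1, f.β, f.β_add_left, f.β_smul_left, fun u v => by rw [f.β_swap o, map_one], f.σ_σ,
  fun _ hv => f.β_ext fun y => by rw [hv, f.β_zero_right]⟩

/-- restriction of scalars -/
def up : (hE f o).EB →+* h.EB where
  toFun a := h.eb (((hE f o).ap a).restrictScalars K)
  map_one' := rfl
  map_mul' _ _ := rfl
  map_zero' := rfl
  map_add' _ _ := rfl

variable {f o}

theorem ap_up (a : (hE f o).EB) (v : V) : h.ap (up f o a) v = (hE f o).ap a v := rfl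

theorem up_inj : Function.Injective (up f o) := fun _ _ e => (hE f o).ap_ext fun v => congrArg (h.ap · v) e

theorem up_star (a : (hE f o).EB) : up f o (star a) = star (up f o a) := h.ap_ext fun y => h.ext_right fun u => by
  rw [h.b_star, f.b_eq, f.b_eq]
  exact congrArg _ ((hE f o).b_star a u y)

theorem up_mem (a : (hE f o).EB) : up f o a ∈ f.C := f.mem_C.2 fun z => h.ap_ext fun v => by
  rw [h.ap_mul, h.ap_mul, f.ap_ι, f.ap_ι, ap_up, ap_up, map_smul]

theorem exists_up {c : h.EB} (hc : c ∈ f.C) : ∃ a, up f o a = c :=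
  ⟨(hE f o).eb { toFun := h.ap c, map_add' := map_add _, map_smul' := f.lin hc }, rfl⟩

theorem up_Lmin {a : (hE f o).EB} (ha : a ∈ Lmin (hE f o).EB) : up f o a ∈ F.L := by
  obtain ⟨b, rfl⟩ := ha
  rw [map_sub, up_star]
  exact F.sub_star_mem _

variable (o) in
/-- the form structure over `E` -/
noncomputable def fE (d : Dat f F H l) : FR (hE f o).EB where
  l := (exists_up (o := o) d.mem).choose
  L := Lmin _
  l_add := up_inj (by rw [map_add, up_star, (exists_up (o := o) d.mem).choose_spec, l_add d.L, map_one])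
  par := Or.inl rfl

theorem up_l (d : Dat f F H l) : up f o (fE o d).l = l := (exists_up (o := o) d.mem).choose_spec

theorem up_Iso (d : Dat f F H l) {u : (hE f o).EBˣ} (hu : u ∈ (fE o d).Iso) : Units.map (up f o : _ →* _) u ∈ F.Iso := by
  refine mem_Iso_of d.L ?_ ?_
  · change up f o u * star (up f o u) = 1
    rw [← up_star, ← map_mul, hu.1, map_one]
  · have h1 := up_Lmin hu.2
    rwa [map_sub, map_mul, map_mul, up_star, up_l] at h1

theorem exists_ord (d : Dat f F H l) {s : ℕ} (hs : s.Prime) (h1 : s ∣ Nat.card (fE o d).Iso) :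
    ∃ u ∈ F.Iso, (u : h.EB) ∈ f.C ∧ orderOf u = s := by
  have : Fact s.Prime := ⟨hs⟩
  obtain ⟨u, hu⟩ := exists_prime_orderOf_dvd_card' s h1
  exact ⟨_, up_Iso d u.2, up_mem _, (orderOf_injective (Units.map (up f o : (hE f o).EB →* h.EB))
    (Units.map_injective up_inj) _).trans ((Subgroup.orderOf_coe u).trans hu)⟩

theorem exists_QE (d : Dat f F H l) (hσ : ∀ θ, f.σ θ = θ) : ∃ Q' : QuadraticForm E V, IsO (hE f o) (fE o d) Q' := by
  let B : V →ₗ[E] V →ₗ[E] E := LinearMap.mk₂ E (fun x y => f.β x (h.ap l y)) (fun _ _ _ => f.β_add_left _ _ _)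
    (fun _ _ _ => f.β_smul_left _ _ _) (fun _ _ _ => by rw [map_add, f.β_add_right]) fun c u v => by
      rw [f.lin d.mem, f.β_smul_right, hσ, smul_eq_mul]
  refine ⟨LinearMap.BilinMap.toQuadraticMap B, hσ, fun u v => ?_, rfl, fun v => ?_⟩
  · rw [LinearMap.BilinMap.polar_toQuadraticMap]
    change f.β u v = f.β u (h.ap l v) + f.β v (h.ap l u)
    rw [f.β_swap o (h.ap l u), hσ, map_one, one_mul, f.β_l d.mem d.L]
  · rw [← ap_up, up_l]
    rfl

theorem card_E : Fintype.card E = Fintype.card K ^ finrank K E := Module.card_eq_pow_finrank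

/-- unitary groups -/
theorem gd_uni (k : KO h F Q) (c : Ctx F H p) (d : Dat f F H l) (h2 : finrank K E = 2) (hσ : ∃ θ, f.σ θ ≠ θ) : Gd F H := by
  have o := TH.Cl.FSO.KO.so k
  have hU : IsU (hE f o) := ⟨rfl, hσ⟩
  have hL := Size.L_eq_U hU (fE o d)
  have h7 := k.dim
  have hn := finrank_mul_finrank K E V
  obtain ⟨m, hm | hm⟩ := Nat.even_or_odd' (finrank E V)
  · obtain ⟨ε, a1, a2, a3⟩ := FldSp.eps_herm f o (fun e => hσ.elim fun θ hθ => hθ (RingHom.congr_fun e θ))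
      (hm.trans (two_mul m))
    have a4 : ε ∈ f.C := f.mem_C.2 fun z => h.ap_ext fun v => by rw [h.ap_mul, h.ap_mul, f.ap_ι, f.ap_ι, a3]
    obtain ⟨y, hy⟩ := exists_up (o := o) (sub_mem d.mem a4)
    have a5 := up_Lmin (a := y) (hL.2.ge (up_inj (by
      rw [up_star, map_neg, hy, star_sub, eq_sub_of_add_eq' a2, eq_sub_of_add_eq' (l_add d.L)]; abel)))
    have a6 := F.L.add_mem d.L (hy ▸ a5)
    exact gd_split k c d a1 a2 (by rwa [sub_add_sub_cancel] at a6) a4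
  rw [h2] at hn
  obtain ⟨s, hs⟩ := H689.exists_ppd (q := Nat.card K) (k := finrank K V) Finite.one_lt_card (by omega) (by omega)
  obtain ⟨u, a1, a2, a3⟩ := exists_ord (o := o) d hs.prime (by
    rw [← card_map_unE, map_Iso_max hL.1, card_IsoV_U hU (card_E.trans (congrArg _ h2)), oGU, hm, Finset.prod_range_succ,
      if_pos (even_two_mul m), ← hm, ← Nat.card_eq_fintype_card]
    exact ((Ppd.dvd_add_one (hn ▸ hs) (by omega)).mul_left _).mul_left _)
  exact gd_sing k c d a1 a2 hs a3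

/-- orthogonal groups of even dimension over the extension field -/
theorem gd_even (k : KO h F Q) (c : Ctx F H p) (d : Dat f F H l) (hσ : ∀ θ, f.σ θ = θ) {m : ℕ} (hm : finrank E V = 2 * m) :
    Gd F H := by
  have o := TH.Cl.FSO.KO.so k
  obtain ⟨Q', o'⟩ := exists_QE (o := o) d hσ
  have h7 := k.dim
  have hn := finrank_mul_finrank K E V
  by_cases hP : H955.IsPlus Q'
  · obtain ⟨ε, a1, a2, a3⟩ := eps_plus o' hP
    have a6 := F.L.add_mem d.L (up_Lmin a3)
    exact gd_split k c d (by rw [← map_mul, a1]) (by rw [← up_star, ← map_add, a2, map_one])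
      (by rwa [map_sub, up_l, sub_add_sub_cancel] at a6) (up_mem ε)
  rw [hm, mul_left_comm] at hn
  have h0 : m ≠ 0 := by rintro rfl; omega
  obtain ⟨s, hs⟩ := H689.exists_ppd (q := Nat.card K) (k := finrank K V) Finite.one_lt_card (by omega) (by omega)
  obtain ⟨u, a1, a2, a3⟩ := exists_ord (o := o) d hs.prime (by
    rw [card_Iso_O o', card_O_minus (nondeg_of_O o') (by omega) hm hP, oM, card_E (K := K), ← pow_mul _ _ m,
      ← Nat.card_eq_fintype_card]
    exact (((Ppd.dvd_add_one (hn ▸ hs) (by omega)).mul_left _).mul_right _).mul_left _)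
  exact gd_sing k c d a1 a2 hs a3

end Cfsg.Agent.N2C.Fld
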